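import Groth.Prelude.Def_W4c3madredgrpAct
import Mathlib.RingTheory.Bialgebra.Convolution
import Mathlib.RingTheory.HopfAlgebra.Basic
import Mathlib.RingTheory.Noetherian.Basic

/-! Composition and local finiteness of translation operators `MadRed.ptAct`. -/

set_option autoImplicit false
universe u v w

open TensorProduct Coalgebra WithConv

namespace PtActLib

variable {k : Type u} [CommRing k] {A : Type v} [CommRing A] [Bialgebra k A]
  {R : Type w} [CommRing R] [Algebra k R]

theorem translAux_eq_sum (g : A →ₐ[k] R) (a : A) {ι : Type*} (r : Coalgebra.Repr k a ι) :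
    MadRed.translAux k A R g a = ∑ i ∈ r.index, g (r.right i) ⊗ₜ[k] r.left i := by
  simp [MadRed.translAux, ← r.eq, map_sum]

theorem ptAct_tmul (g : A →ₐ[k] R) (x : R) (a : A) :
    MadRed.ptAct k A R g (x ⊗ₜ[k] a) = x • MadRed.translAux k A R g a := by
  simp [MadRed.ptAct, Algebra.smul_def]

theorem ptAct_comp (g h : A →ₐ[k] R) (x : R ⊗[k] A) :
    MadRed.ptAct k A R g (MadRed.ptAct k A R h x) =
      MadRed.ptAct k A R (toConv g * toConv h).ofConv x := by
  induction x using TensorProduct.induction_on with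
  | zero => simp
  | add x y hx hy => simp only [map_add, hx, hy]
  | tmul c a =>
    rw [ptAct_tmul, ptAct_tmul, map_smul]
    congr 1
    let r := ℛ k a
    let r1 := fun i => ℛ k (r.left i)
    let r2 := fun i => ℛ k (r.right i)
    have H := Coalgebra.sum_tmul_tmul_eq r r1 r2
    let L : A ⊗[k] (A ⊗[k] A) →ₗ[k] R ⊗[k] A :=
      (TensorProduct.comm k A R).toLinearMap ∘ₗ
        TensorProduct.map LinearMap.id (LinearMap.mul' k R ∘ₗ TensorProduct.map g.toLinearMap h.toLinearMap)
    have H' := congrArg L H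
    simp only [map_sum, L, LinearMap.comp_apply, TensorProduct.map_tmul, LinearMap.id_apply,
      AlgHom.toLinearMap_apply, LinearMap.mul'_apply, LinearEquiv.coe_coe, TensorProduct.comm_tmul] at H'
    rw [translAux_eq_sum h a r, map_sum, translAux_eq_sum _ a r]
    refine Eq.trans ?_ (H'.trans ?_)
    · refine Finset.sum_congr rfl fun i _ => ?_
      rw [ptAct_tmul, translAux_eq_sum g _ (r1 i), Finset.smul_sum]
      refine Finset.sum_congr rfl fun j _ => ?_
      rw [TensorProduct.smul_tmul', smul_eq_mul, mul_comm]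
    · refine Finset.sum_congr rfl fun i _ => ?_
      rw [AlgHom.convMul_apply, ← (r2 i).eq]
      simp [map_sum, TensorProduct.sum_tmul]

theorem exists_fg_stable [IsNoetherianRing R] (x : R ⊗[k] A) :
    ∃ W : Submodule R (R ⊗[k] A), x ∈ W ∧ W.FG ∧ ∀ g : A →ₐ[k] R, ∀ w ∈ W, MadRed.ptAct k A R g w ∈ W := by
  induction x using TensorProduct.induction_on with
  | zero => exact ⟨⊥, zero_mem _, Submodule.fg_bot, fun g w hw => by
      rw [(Submodule.mem_bot R).mp hw, map_zero]; exact zero_mem _⟩
  | add x y hx hy =>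
    obtain ⟨W, hW1, hW2, hW3⟩ := hx
    obtain ⟨W', hW1', hW2', hW3'⟩ := hy
    refine ⟨W ⊔ W', Submodule.add_mem_sup hW1 hW1', hW2.sup hW2', fun g w hw => ?_⟩
    obtain ⟨p, hp, q, hq, rfl⟩ := Submodule.mem_sup.mp hw
    rw [map_add]
    exact Submodule.add_mem_sup (hW3 g p hp) (hW3' g q hq)
  | tmul c a =>
    let W : Submodule R (R ⊗[k] A) :=
      Submodule.span R (insert (c ⊗ₜ[k] a) (Set.range fun p : A →ₐ[k] R => MadRed.ptAct k A R p (c ⊗ₜ[k] a)))
    let r := ℛ k a
    let M0 : Submodule R (R ⊗[k] A) :=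
      Submodule.span R (insert (c ⊗ₜ[k] a) ((fun i => (1 : R) ⊗ₜ[k] r.left i) '' r.index))
    haveI : IsNoetherian R M0 := isNoetherian_of_fg_of_noetherian M0
      (Submodule.fg_span ((r.index.finite_toSet.image _).insert _))
    have hle : W ≤ M0 := Submodule.span_le.mpr (Set.insert_subset (Submodule.subset_span (Or.inl rfl)) (by
      rintro _ ⟨p, rfl⟩
      dsimp only
      rw [ptAct_tmul, translAux_eq_sum p a r]
      refine Submodule.smul_mem _ _ (Submodule.sum_mem _ fun i hi => ?_)
      rw [show p (r.right i) ⊗ₜ[k] r.left i = p (r.right i) • ((1 : R) ⊗ₜ[k] r.left i) by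
        rw [TensorProduct.smul_tmul', smul_eq_mul, mul_one]]
      exact Submodule.smul_mem _ _ (Submodule.subset_span (Or.inr ⟨i, hi, rfl⟩))))
    refine ⟨W, Submodule.subset_span (Or.inl rfl), ?_, fun g w hw => ?_⟩
    · have h1 : (W.comap M0.subtype).FG := IsNoetherian.noetherian _
      have h2 := h1.map M0.subtype
      rwa [Submodule.map_comap_subtype, inf_eq_right.mpr hle] at h2
    · refine Submodule.span_induction (fun z hz => ?_) (by simp) (fun _ _ _ _ h1 h2 => by
        rw [map_add]; exact add_mem h1 h2) (fun t z _ hz => by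
        rw [map_smul]; exact Submodule.smul_mem _ _ hz) hw
      rcases hz with rfl | ⟨p, rfl⟩
      · exact Submodule.subset_span (Or.inr ⟨g, rfl⟩)
      · exact Submodule.subset_span (Or.inr ⟨(toConv g * toConv p).ofConv, (ptAct_comp g p _).symm⟩)

end PtActLib
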